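import Groth.Prelude.Def_CartDual2
import Groth.Agent.HopfLib.FaithfullyFlat
import Mathlib.RingTheory.Spectrum.Prime.FreeLocus
import Mathlib.RingTheory.Flat.FaithfullyFlat.Algebra
import Mathlib.RingTheory.RingHom.FaithfullyFlat

/-!
# Duals of short exact sequences of finite projective Hopf algebras

`A'' → A → A'` with `A` having an `A''`-linear retraction to `A''`: the map `E = (g ⊗ 1)Δ : A → A' ⊗ A`
has a retraction `V` of left `A'`-comodules, which gives everything by duality.
-/

set_option autoImplicit false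
set_option backward.isDefEq.respectTransparency.types false

open TensorProduct

noncomputable section

universe u

namespace Groth.Agent.CartLib.DualExact

open Coalgebra (comul counit)

variable {R : Type u} [CommRing R] {A' A A'' : Type u} [CommRing A'] [HopfAlgebra R A'] [CommRing A]
  [HopfAlgebra R A] [CommRing A''] [HopfAlgebra R A''] (f : A'' →ₐc[R] A) (g : A →ₐc[R] A')

/-- The coaction `a ↦ g(a₁) ⊗ a₂`. -/
def E : A →ₐ[R] A' ⊗[R] A :=
  (Algebra.TensorProduct.map (g : A →ₐ[R] A') (AlgHom.id R A)).comp (Bialgebra.comulAlgHom R A)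

/-- `x ↦ x₁ ⊗ S x₂`. -/
def τ : A →ₐ[R] A ⊗[R] A :=
  (Algebra.TensorProduct.map (AlgHom.id R A) (HopfAlgebra.antipodeAlgHom R A)).comp (Bialgebra.comulAlgHom R A)

variable (r : A →ₗ[R] A'')

/-- `a ⊗ b ↦ a f(r b)`. -/
def Φ : A ⊗[R] A →ₗ[R] A :=
  LinearMap.mul' R A ∘ₗ LinearMap.lTensor A ((f : A'' →ₐ[R] A).toLinearMap ∘ₗ r)

@[simp] theorem Φ_tmul (a b : A) : Φ f r (a ⊗ₜ b) = a * f (r b) := rfl

theorem Φ_mul_tmul (hr : ∀ c y, r (f c * y) = c * r y) (a : A) (c : A'') (t : A ⊗[R] A) :
    Φ f r ((a ⊗ₜ f c) * t) = a * f c * Φ f r t := by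
  induction t using TensorProduct.induction_on with
  | zero => simp
  | add p q hp hq => simp only [mul_add, map_add, hp, hq]
  | tmul p q =>
    rw [Algebra.TensorProduct.tmul_mul_tmul, Φ_tmul, Φ_tmul, hr, map_mul]
    ring

/-- `x ⊗ y ↦ x₁ f(r(S x₂ y))`. -/
def V0 : A ⊗[R] A →ₗ[R] A :=
  Φ f r ∘ₗ (Algebra.TensorProduct.lift (τ (R := R) (A := A))
    (Algebra.TensorProduct.includeRight : A →ₐ[R] A ⊗[R] A) fun _ _ => .all _ _).toLinearMap

theorem V0_tmul (x y : A) : V0 f r (x ⊗ₜ y) = Φ f r (τ x * ((1 : A) ⊗ₜ[R] y)) := by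
  show Φ f r (Algebra.TensorProduct.lift (τ (R := R) (A := A))
    (Algebra.TensorProduct.includeRight : A →ₐ[R] A ⊗[R] A) (fun _ _ => .all _ _) (x ⊗ₜ y)) = _
  rw [Algebra.TensorProduct.lift_tmul, Algebra.TensorProduct.includeRight_apply]

theorem V0_one_tmul (y : A) : V0 f r ((1 : A) ⊗ₜ y) = f (r y) := by
  rw [V0_tmul, map_one, one_mul, Φ_tmul, one_mul]

/-- `τ(f z) = (f ⊗ f)(z₁ ⊗ S z₂)`. -/
theorem τ_f (z : A'') : τ (R := R) (f z) =
    TensorProduct.map (f : A'' →ₐ[R] A).toLinearMap (f : A'' →ₐ[R] A).toLinearMap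
      ((HopfAlgebra.antipode R).lTensor A'' (comul (R := R) z)) := by
  show Algebra.TensorProduct.map (AlgHom.id R A) (HopfAlgebra.antipodeAlgHom R A) (comul (R := R) (f z)) = _
  have h : TensorProduct.map (f : A'' →ₐ[R] A).toLinearMap (f : A'' →ₐ[R] A).toLinearMap (comul (R := R) z) =
      comul (R := R) (f z) := CoalgHomClass.map_comp_comul_apply f z
  rw [← h]
  generalize comul (R := R) z = t
  induction t using TensorProduct.induction_on with
  | zero => simp
  | add p q hp hq => simp only [map_add, hp, hq]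
  | tmul p q =>
    simp only [TensorProduct.map_tmul, LinearMap.lTensor_tmul, Algebra.TensorProduct.map_tmul, AlgHom.id_apply]
    exact congrArg (f p ⊗ₜ[R] ·) (Groth.Agent.HopfLib.map_antipode' f q).symm

theorem V0_ker (hr : ∀ c y, r (f c * y) = c * r y)
    (hker : RingHom.ker (g : A →ₐ[R] A') = Ideal.map (f : A'' →ₐ[R] A) (RingHom.ker (Bialgebra.counitAlgHom R A'')))
    {x : A} (hx : g x = 0) (y : A) : V0 f r (x ⊗ₜ y) = 0 := by
  have key : ∀ (t : A'' ⊗[R] A'') (u : A ⊗[R] A),
      Φ f r (TensorProduct.map (f : A'' →ₐ[R] A).toLinearMap (f : A'' →ₐ[R] A).toLinearMap t * u) =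
        f (LinearMap.mul' R A'' t) * Φ f r u := by
    intro t u
    induction t using TensorProduct.induction_on with
    | zero => simp
    | add p q hp hq => simp only [map_add, add_mul, hp, hq]
    | tmul p q =>
      rw [TensorProduct.map_tmul, LinearMap.mul'_apply, map_mul f p q]
      exact Φ_mul_tmul f r hr (f p) q u
  have hx' : x ∈ Ideal.map (f : A'' →ₐ[R] A) (RingHom.ker (Bialgebra.counitAlgHom R A'')) := hker ▸ (hx : x ∈ RingHom.ker (g : A →ₐ[R] A'))
  revert y
  clear hx
  rw [Ideal.map] at hx'
  induction hx' using Submodule.span_induction with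
  | zero => intro y; simp
  | add p q _ _ hp hq => intro y; rw [TensorProduct.add_tmul, map_add, hp, hq, add_zero]
  | mem p hp =>
    obtain ⟨z, hz, rfl⟩ := hp
    intro y
    show V0 f r (f z ⊗ₜ y) = 0
    rw [V0_tmul, τ_f, key, HopfAlgebra.mul_antipode_lTensor_comul_apply,
      show counit (R := R) z = 0 from hz, map_zero, map_zero, zero_mul]
  | smul c p _ hp =>
    intro y
    rw [smul_eq_mul, V0_tmul, map_mul (τ (R := R) (A := A)), mul_comm (τ (R := R) c) (τ (R := R) p), mul_assoc]
    generalize τ (R := R) c * ((1 : A) ⊗ₜ[R] y) = t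
    induction t using TensorProduct.induction_on with
    | zero => simp
    | add a b ha hb => rw [mul_add, map_add, ha, hb, add_zero]
    | tmul a b =>
      rw [show a ⊗ₜ[R] b = ((1 : A) ⊗ₜ[R] b) * (a ⊗ₜ[R] (1 : A)) by
        rw [Algebra.TensorProduct.tmul_mul_tmul, one_mul, mul_one], ← mul_assoc]
      have e : ∀ u : A ⊗[R] A, Φ f r (u * (a ⊗ₜ[R] (1 : A))) = Φ f r u * a := fun u => by
        induction u using TensorProduct.induction_on with
        | zero => simp
        | add a b ha hb => rw [add_mul, map_add, map_add, ha, hb, add_mul]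
        | tmul c d => rw [Algebra.TensorProduct.tmul_mul_tmul, mul_one, Φ_tmul, Φ_tmul]; ring
      rw [e, ← V0_tmul, hp, zero_mul]

/-- `a₁ ⊗ S a₂ a₃ = a ⊗ 1`. -/
theorem lift_τ_comul (a : A) :
    Algebra.TensorProduct.lift (τ (R := R) (A := A)) (Algebra.TensorProduct.includeRight : A →ₐ[R] A ⊗[R] A)
      (fun _ _ => .all _ _) (comul (R := R) a) = a ⊗ₜ[R] 1 := by
  let L : A ⊗[R] (A ⊗[R] A) →ₗ[R] A ⊗[R] A :=
    LinearMap.lTensor A (LinearMap.mul' R A ∘ₗ (HopfAlgebra.antipode R).rTensor A)
  have h1 : ∀ t : A ⊗[R] A, Algebra.TensorProduct.lift (τ (R := R) (A := A))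
      (Algebra.TensorProduct.includeRight : A →ₐ[R] A ⊗[R] A) (fun _ _ => .all _ _) t =
      L (TensorProduct.assoc R A A A ((comul (R := R) (A := A)).rTensor A t)) := fun t => by
    induction t using TensorProduct.induction_on with
    | zero => simp
    | add p q hp hq => simp only [map_add, hp, hq]
    | tmul p q =>
      rw [Algebra.TensorProduct.lift_tmul, LinearMap.rTensor_tmul]
      show Algebra.TensorProduct.map (AlgHom.id R A) (HopfAlgebra.antipodeAlgHom R A) (comul (R := R) p) *
        ((1 : A) ⊗ₜ[R] q) = _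
      generalize comul (R := R) p = s
      induction s using TensorProduct.induction_on with
      | zero => simp
      | add a b ha hb => simp only [map_add, add_mul, TensorProduct.add_tmul, ha, hb]
      | tmul a b => simp [L]
  rw [h1, Coalgebra.coassoc_apply]
  have h2 : ∀ t : A ⊗[R] A, L ((comul (R := R) (A := A)).lTensor A t) =
      LinearMap.lTensor A (Algebra.linearMap R A ∘ₗ counit) t := fun t => by
    induction t using TensorProduct.induction_on with
    | zero => simp
    | add p q hp hq => simp only [map_add, hp, hq]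
    | tmul p q => simp [L]
  rw [h2, LinearMap.lTensor_comp, LinearMap.comp_apply, Coalgebra.lTensor_counit_comul]
  simp

theorem g_comp_f
    (hker : RingHom.ker (g : A →ₐ[R] A') = Ideal.map (f : A'' →ₐ[R] A) (RingHom.ker (Bialgebra.counitAlgHom R A'')))
    (z : A'') : g (f z) = algebraMap R A' (counit (R := R) z) := by
  have h : f (z - algebraMap R A'' (counit (R := R) z)) ∈ RingHom.ker (g : A →ₐ[R] A') := by
    rw [hker]
    refine Ideal.mem_map_of_mem _ ?_
    rw [RingHom.mem_ker, map_sub, AlgHom.commutes, Bialgebra.counitAlgHom_apply]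
    simp
  have h' : (g : A →ₐ[R] A') ((f : A'' →ₐ[R] A) (z - algebraMap R A'' (counit (R := R) z))) = 0 := h
  rw [map_sub, map_sub, AlgHom.commutes, AlgHom.commutes, sub_eq_zero] at h'
  exact h'

theorem E_f
    (hker : RingHom.ker (g : A →ₐ[R] A') = Ideal.map (f : A'' →ₐ[R] A) (RingHom.ker (Bialgebra.counitAlgHom R A'')))
    (z : A'') : E g (f z) = (1 : A') ⊗ₜ[R] f z := by
  show Algebra.TensorProduct.map (g : A →ₐ[R] A') (AlgHom.id R A) (comul (R := R) (f z)) = _
  have h : TensorProduct.map (f : A'' →ₐ[R] A).toLinearMap (f : A'' →ₐ[R] A).toLinearMap (comul (R := R) z) =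
      comul (R := R) (f z) := CoalgHomClass.map_comp_comul_apply f z
  rw [← h]
  have e : ∀ t : A'' ⊗[R] A'', Algebra.TensorProduct.map (g : A →ₐ[R] A') (AlgHom.id R A)
      (TensorProduct.map (f : A'' →ₐ[R] A).toLinearMap (f : A'' →ₐ[R] A).toLinearMap t) =
      TensorProduct.map (Algebra.linearMap R A') (f : A'' →ₐ[R] A).toLinearMap
        ((counit (R := R) (A := A'')).rTensor A'' t) := fun t => by
    induction t using TensorProduct.induction_on with
    | zero => simp
    | add p q hp hq => simp only [map_add, hp, hq]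
    | tmul p q =>
      show g (f p) ⊗ₜ[R] f q = algebraMap R A' (counit (R := R) p) ⊗ₜ[R] f q
      rw [g_comp_f f g hker]
  rw [e, Coalgebra.rTensor_counit_comul]
  simp

theorem E_Φ
    (hker : RingHom.ker (g : A →ₐ[R] A') = Ideal.map (f : A'' →ₐ[R] A) (RingHom.ker (Bialgebra.counitAlgHom R A'')))
    (t : A ⊗[R] A) : E g (Φ f r t) =
      LinearMap.lTensor A' (Φ f r) (TensorProduct.assoc R A' A A ((E g).toLinearMap.rTensor A t)) := by
  induction t using TensorProduct.induction_on with
  | zero => simp
  | add p q hp hq => simp only [map_add, hp, hq]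
  | tmul a b =>
    rw [Φ_tmul, map_mul, E_f f g hker, LinearMap.rTensor_tmul, AlgHom.toLinearMap_apply]
    generalize E g a = s
    induction s using TensorProduct.induction_on with
    | zero => simp
    | add p q hp hq => simp only [map_add, add_mul, TensorProduct.add_tmul, hp, hq]
    | tmul p q =>
      rw [Algebra.TensorProduct.tmul_mul_tmul, mul_one, TensorProduct.assoc_tmul, LinearMap.lTensor_tmul, Φ_tmul]

/-- The comodule compatibility of `V0`. -/
theorem E_V0
    (hker : RingHom.ker (g : A →ₐ[R] A') = Ideal.map (f : A'' →ₐ[R] A) (RingHom.ker (Bialgebra.counitAlgHom R A'')))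
    (x y : A) : E g (V0 f r (x ⊗ₜ y)) =
      LinearMap.lTensor A' (V0 f r) (TensorProduct.assoc R A' A A (E g x ⊗ₜ[R] y)) := by
  rw [V0_tmul, E_Φ f g r hker]
  let T : A ⊗[R] A →ₗ[R] A' ⊗[R] (A ⊗[R] A) :=
    (TensorProduct.assoc R A' A A).toLinearMap ∘ₗ (E g).toLinearMap.rTensor A
  have hT : T (τ (R := R) x) = LinearMap.lTensor A' (τ (R := R) (A := A)).toLinearMap (E g x) := by
    let G : A ⊗[R] (A ⊗[R] A) →ₗ[R] A' ⊗[R] (A ⊗[R] A) :=
      TensorProduct.map (g : A →ₐ[R] A').toLinearMap ((HopfAlgebra.antipode R).lTensor A)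
    have e1 : ∀ t : A ⊗[R] A, T (Algebra.TensorProduct.map (AlgHom.id R A) (HopfAlgebra.antipodeAlgHom R A) t) =
        G (TensorProduct.assoc R A A A ((comul (R := R) (A := A)).rTensor A t)) := fun t => by
      induction t using TensorProduct.induction_on with
      | zero => simp
      | add p q hp hq => simp only [map_add, hp, hq]
      | tmul p q =>
        show TensorProduct.assoc R A' A A (E g p ⊗ₜ[R] HopfAlgebra.antipode R q) = _
        rw [LinearMap.rTensor_tmul]
        show TensorProduct.assoc R A' A A (Algebra.TensorProduct.map (g : A →ₐ[R] A') (AlgHom.id R A)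
          (comul (R := R) p) ⊗ₜ[R] HopfAlgebra.antipode R q) = _
        generalize comul (R := R) p = s
        induction s using TensorProduct.induction_on with
        | zero => simp
        | add a b ha hb => simp only [map_add, TensorProduct.add_tmul, ha, hb]
        | tmul a b => simp [G]
    have e2 : ∀ t : A ⊗[R] A, G ((comul (R := R) (A := A)).lTensor A t) =
        LinearMap.lTensor A' (τ (R := R) (A := A)).toLinearMap
          (Algebra.TensorProduct.map (g : A →ₐ[R] A') (AlgHom.id R A) t) := fun t => by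
      induction t using TensorProduct.induction_on with
      | zero => simp
      | add p q hp hq => simp only [map_add, hp, hq]
      | tmul p q =>
        rw [LinearMap.lTensor_tmul, Algebra.TensorProduct.map_tmul, LinearMap.lTensor_tmul]
        show g p ⊗ₜ[R] (HopfAlgebra.antipode R).lTensor A (comul (R := R) q) =
          g p ⊗ₜ[R] Algebra.TensorProduct.map (AlgHom.id R A) (HopfAlgebra.antipodeAlgHom R A) (comul (R := R) q)
        congr 1
    show T (Algebra.TensorProduct.map (AlgHom.id R A) (HopfAlgebra.antipodeAlgHom R A) (comul (R := R) x)) = _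
    rw [e1, Coalgebra.coassoc_apply, e2]
    rfl
  have e3 : ∀ t : A ⊗[R] A, T (t * ((1 : A) ⊗ₜ[R] y)) =
      LinearMap.lTensor A' (LinearMap.mulRight R ((1 : A) ⊗ₜ[R] y)) (T t) := fun t => by
    induction t using TensorProduct.induction_on with
    | zero => simp
    | add p q hp hq => simp only [add_mul, map_add, hp, hq]
    | tmul p q =>
      rw [Algebra.TensorProduct.tmul_mul_tmul, mul_one]
      show TensorProduct.assoc R A' A A (E g p ⊗ₜ[R] (q * y)) =
        LinearMap.lTensor A' (LinearMap.mulRight R ((1 : A) ⊗ₜ[R] y)) (TensorProduct.assoc R A' A A (E g p ⊗ₜ[R] q))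
      generalize E g p = s
      induction s using TensorProduct.induction_on with
      | zero => simp
      | add a b ha hb => simp only [map_add, TensorProduct.add_tmul, ha, hb]
      | tmul a b => simp
  show LinearMap.lTensor A' (Φ f r) (T (τ (R := R) x * ((1 : A) ⊗ₜ[R] y))) = _
  rw [e3, hT]
  generalize E g x = s
  induction s using TensorProduct.induction_on with
  | zero => simp
  | add a b ha hb => simp only [map_add, TensorProduct.add_tmul, ha, hb]
  | tmul a b => simp [V0_tmul]

/-- A faithfully flat finite algebra over a Noetherian ring has a linear retraction. -/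
theorem exists_retraction [IsNoetherianRing A''] [Module.Finite R A]
    (hf : (f : A'' →ₐ[R] A).toRingHom.FaithfullyFlat) :
    ∃ r : A →ₗ[R] A'', (∀ c y, r (f c * y) = c * r y) ∧ r 1 = 1 := by
  algebraize [(f : A'' →ₐ[R] A).toRingHom]
  haveI : IsScalarTower R A'' A := .of_algebraMap_eq fun x => ((f : A'' →ₐ[R] A).commutes x).symm
  haveI : Module.Finite A'' A := Module.Finite.of_restrictScalars_finite R A'' A
  haveI : Module.FinitePresentation A'' A := Module.finitePresentation_of_finite A'' A
  haveI : Module.Projective A'' A := by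
    refine Module.projective_of_localization_maximal fun I hI => ?_
    haveI := Module.free_of_flat_of_isLocalRing (R := Localization.AtPrime I) (P := LocalizedModule I.primeCompl A)
    infer_instance
  obtain ⟨ℓ, hℓ⟩ : ∃ ℓ : A →ₗ[A''] A'', ℓ 1 = 1 := by
    suffices h : (LinearMap.range (LinearMap.applyₗ (R := A'') (1 : A) :
        (A →ₗ[A''] A'') →ₗ[A''] A'') : Ideal A'') = ⊤ by
      exact (Ideal.eq_top_iff_one _).1 h
    by_contra hne
    obtain ⟨m, hm, hle⟩ := Ideal.exists_le_maximal _ hne
    refine Module.FaithfullyFlat.submodule_ne_top (M := A) hm (eq_top_iff.2 fun a _ => ?_)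
    obtain ⟨s, hs⟩ := Module.projective_def'.1 (inferInstance : Module.Projective A'' A)
    have h1 : (1 : A) ∈ m • (⊤ : Submodule A'' A) := by
      have e : Finsupp.linearCombination A'' id (s 1) = (1 : A) := LinearMap.congr_fun hs 1
      rw [← e, Finsupp.linearCombination_apply]
      refine sum_mem fun i _ => Submodule.smul_mem_smul (hle ⟨Finsupp.lapply i ∘ₗ s, rfl⟩) trivial
    have : ∀ x ∈ m • (⊤ : Submodule A'' A), a * x ∈ m • (⊤ : Submodule A'' A) := fun x hx => by
      refine Submodule.smul_induction_on hx (fun c hc y _ => ?_) fun u v hu hv => by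
        rw [mul_add]; exact add_mem hu hv
      rw [mul_smul_comm]
      exact Submodule.smul_mem_smul hc trivial
    simpa using this 1 h1
  refine ⟨ℓ.restrictScalars R, fun c y => ?_, hℓ⟩
  show ℓ (f c * y) = c * ℓ y
  rw [show f c * y = c • y from rfl, map_smul, smul_eq_mul]

/-- The retraction `V : A' ⊗ A → A` of `E`. -/
theorem exists_retraction_E (hg : Function.Surjective g) [Module.Projective R A']
    (hr : ∀ c y, r (f c * y) = c * r y) (hr1 : r 1 = 1)
    (hker : RingHom.ker (g : A →ₐ[R] A') = Ideal.map (f : A'' →ₐ[R] A) (RingHom.ker (Bialgebra.counitAlgHom R A''))) :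
    ∃ V : A' ⊗[R] A →ₗ[R] A, (∀ a, V (E g a) = a) ∧ (∀ y, V ((1 : A') ⊗ₜ y) = f (r y)) ∧
      ∀ (x' : A') (y : A), E g (V (x' ⊗ₜ y)) =
        LinearMap.lTensor A' V (TensorProduct.assoc R A' A' A (comul (R := R) x' ⊗ₜ[R] y)) := by
  obtain ⟨σ, hσ⟩ := Module.projective_lifting_property (g : A →ₐ[R] A').toLinearMap LinearMap.id hg
  let V : A' ⊗[R] A →ₗ[R] A := V0 f r ∘ₗ σ.rTensor A
  have hV : ∀ x y, V (g x ⊗ₜ y) = V0 f r (x ⊗ₜ y) := fun x y => by
    show V0 f r (σ (g x) ⊗ₜ y) = _
    rw [← sub_eq_zero, ← map_sub, ← TensorProduct.sub_tmul]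
    refine V0_ker f g r hr hker ?_ y
    rw [map_sub, sub_eq_zero]
    exact LinearMap.congr_fun hσ (g x)
  have hVE : ∀ t : A ⊗[R] A,
      V (Algebra.TensorProduct.map (g : A →ₐ[R] A') (AlgHom.id R A) t) = V0 f r t := fun t => by
    induction t using TensorProduct.induction_on with
    | zero => simp
    | add p q hp hq => simp only [map_add, hp, hq]
    | tmul p q => exact hV p q
  refine ⟨V, fun a => ?_, fun y => ?_, fun x' y => ?_⟩
  · show V (Algebra.TensorProduct.map (g : A →ₐ[R] A') (AlgHom.id R A) (comul (R := R) a)) = a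
    rw [hVE, V0, LinearMap.comp_apply, AlgHom.toLinearMap_apply, lift_τ_comul, Φ_tmul, hr1, map_one, mul_one]
  · rw [← map_one g, hV, V0_one_tmul]
  · obtain ⟨x, rfl⟩ := hg x'
    rw [hV, E_V0 f g r hker]
    have h : TensorProduct.map (g : A →ₐ[R] A').toLinearMap (g : A →ₐ[R] A').toLinearMap (comul (R := R) x) =
        comul (R := R) (g x) := CoalgHomClass.map_comp_comul_apply g x
    rw [← h]
    show LinearMap.lTensor A' (V0 f r) (TensorProduct.assoc R A' A A
      (Algebra.TensorProduct.map (g : A →ₐ[R] A') (AlgHom.id R A) (comul (R := R) x) ⊗ₜ[R] y)) = _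
    generalize comul (R := R) x = s
    induction s using TensorProduct.induction_on with
    | zero => simp
    | add a b ha hb => simp only [map_add, TensorProduct.add_tmul, ha, hb]
    | tmul a b =>
      simp only [TensorProduct.map_tmul, TensorProduct.assoc_tmul, LinearMap.lTensor_tmul,
        Algebra.TensorProduct.map_tmul, AlgHom.id_apply, AlgHom.toLinearMap_apply]
      exact congrArg ((g : A →ₐ[R] A') a ⊗ₜ[R] ·) (hV b y).symm

section Dual

open CartDual

variable [Module.Finite R A'] [Module.Projective R A'] [Module.Finite R A] [Module.Projective R A]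

omit [Module.Finite R A'] [Module.Projective R A'] [Module.Finite R A] [Module.Projective R A] in
instance instLeftDistrib : LeftDistribClass (D R A' ⊗[R] D R A) := by
  let _ : Semiring (D R A' ⊗[R] D R A) := inferInstance
  infer_instance

omit [Module.Finite R A'] [Module.Projective R A'] [Module.Finite R A] [Module.Projective R A] in
instance instRightDistrib : RightDistribClass (D R A' ⊗[R] D R A) := by
  let _ : Semiring (D R A' ⊗[R] D R A) := inferInstance
  infer_instance

/-- The pairing `D A' ⊗ D A ≅ (A' ⊗ A)ᵛ`. -/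
def Q : D R A' ⊗[R] D R A ≃ₗ[R] Module.Dual R (A' ⊗[R] A) :=
  TensorProduct.congr (toDual R A') (toDual R A) ≪≫ₗ dualTensorEquiv R A' A

theorem Q_tmul (ψ : D R A') (φ : D R A) (x : A') (y : A) : Q (R := R) (ψ ⊗ₜ φ) (x ⊗ₜ y) = ψ x * φ y := by
  simp [Q, coe_apply]

/-- `(tg ψ · φ)(a)` is the pairing with `E a`. -/
theorem mul_apply_eq (ψ : D R A') (φ : D R A) (a : A) :
    (transpose R g ψ * φ) a = Q (R := R) (ψ ⊗ₜ φ) (E g a) := by
  rw [LinearMap.convMul_apply]
  show _ = Q (R := R) (ψ ⊗ₜ φ) (Algebra.TensorProduct.map (g : A →ₐ[R] A') (AlgHom.id R A) (comul (R := R) a))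
  generalize comul (R := R) a = t
  induction t using TensorProduct.induction_on with
  | zero => simp
  | add p q hp hq => simp only [map_add, hp, hq]
  | tmul p q =>
    rw [Algebra.TensorProduct.map_tmul, Q_tmul, TensorProduct.map_tmul, LinearMap.mul'_apply]
    rfl

/-- The transposed multiplication `D A' ⊗ D A → D A`. -/
def μ : D R A' ⊗[R] D R A →ₗ[R] D R A :=
  (toDual R A).symm.toLinearMap ∘ₗ (E g).toLinearMap.dualMap ∘ₗ (Q (R := R) (A' := A') (A := A)).toLinearMap

theorem μ_tmul (ψ : D R A') (φ : D R A) : μ g (ψ ⊗ₜ φ) = transpose R g ψ * φ :=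
  WithConv.ext (LinearMap.ext fun a => (mul_apply_eq g ψ φ a).symm)

theorem μ_apply (z : D R A' ⊗[R] D R A) (a : A) : μ g z a = Q (R := R) z (E g a) := rfl

/-- The transposed sequence is exact. -/
theorem transpose_exact [IsNoetherianRing R] [Module.Finite R A''] [Module.Projective R A'']
    (hf : (f : A'' →ₐ[R] A).toRingHom.FaithfullyFlat) (hg : Function.Surjective g)
    (hker : RingHom.ker (g : A →ₐ[R] A') = Ideal.map (f : A'' →ₐ[R] A) (RingHom.ker (Bialgebra.counitAlgHom R A'')))
    [Coalgebra.IsCocomm R A'] [Coalgebra.IsCocomm R A] [Coalgebra.IsCocomm R A''] :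
    (transpose R g : D R A' →ₐ[R] D R A).toRingHom.FaithfullyFlat ∧
      Function.Surjective (transpose R f) ∧
      RingHom.ker (transpose R f : D R A →ₐ[R] D R A'') =
        Ideal.map (transpose R g : D R A' →ₐ[R] D R A) (RingHom.ker (Bialgebra.counitAlgHom R (D R A'))) := by
  haveI : IsNoetherianRing A'' := Algebra.FiniteType.isNoetherianRing R A''
  obtain ⟨r, hr, hr1⟩ := exists_retraction f hf
  obtain ⟨V, hVE, hV1, hVc⟩ := exists_retraction_E f g r hg hr hr1 hker
  have hrf : ∀ c, r (f c) = c := fun c => by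
    have := hr c 1
    rwa [mul_one, hr1, mul_one] at this
  let s : D R A →ₗ[R] D R A' ⊗[R] D R A :=
    (Q (R := R) (A' := A') (A := A)).symm.toLinearMap ∘ₗ V.dualMap ∘ₗ (toDual R A).toLinearMap
  have hQs : ∀ (φ : D R A) (w : A' ⊗[R] A), Q (R := R) (s φ) w = φ (V w) := fun φ w =>
    LinearMap.congr_fun ((Q (R := R) (A' := A') (A := A)).apply_symm_apply _) w
  have hμs : ∀ φ, μ g (s φ) = φ := fun φ =>
    WithConv.ext (LinearMap.ext fun a => by
      show μ g (s φ) a = φ a
      rw [μ_apply, hQs, hVE])
  -- `s` is linear over the dual of `A'`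
  have hsl : ∀ (χ : D R A') (φ : D R A), s (transpose R g χ * φ) = (χ ⊗ₜ[R] (1 : D R A)) * s φ := by
    intro χ φ
    apply (Q (R := R) (A' := A') (A := A)).injective
    refine TensorProduct.ext' fun x' y => ?_
    rw [hQs, mul_apply_eq, hVc]
    let H : A' ⊗[R] A →ₗ[R] A' ⊗[R] A :=
      ((TensorProduct.lid R A').toLinearMap ∘ₗ χ.ofConv.rTensor A' ∘ₗ comul (R := R)).rTensor A
    have hH : ∀ z : D R A' ⊗[R] D R A, Q (R := R) ((χ ⊗ₜ[R] (1 : D R A)) * z) (x' ⊗ₜ y) = Q (R := R) z (H (x' ⊗ₜ y)) := by
      intro z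
      induction z using TensorProduct.induction_on with
      | zero => rw [show (χ ⊗ₜ[R] (1 : D R A)) * 0 = 0 from MulZeroClass.mul_zero (self := (inferInstance : Semiring (D R A' ⊗[R] D R A)).toMulZeroClass) _]; simp
      | add p q hp hq => simp only [mul_add, map_add, LinearMap.add_apply, hp, hq]
      | tmul ψ φ' =>
        rw [Algebra.TensorProduct.tmul_mul_tmul, one_mul, Q_tmul, LinearMap.rTensor_tmul, Q_tmul,
          LinearMap.convMul_apply]
        congr 1
        show _ = ψ.ofConv _
        simp only [LinearMap.comp_apply, LinearEquiv.coe_coe]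
        generalize comul (R := R) x' = t
        induction t using TensorProduct.induction_on with
        | zero => simp
        | add p q hp hq => simp only [map_add, hp, hq]
        | tmul p q => simp [coe_apply]
    rw [hH, hQs]
    show _ = φ.ofConv (V (H (x' ⊗ₜ y)))
    simp only [H, LinearMap.rTensor_tmul, LinearMap.comp_apply, LinearEquiv.coe_coe]
    generalize comul (R := R) x' = t
    induction t using TensorProduct.induction_on with
    | zero => simp
    | add p q hp hq => simp only [map_add, TensorProduct.add_tmul, hp, hq]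
    | tmul p q =>
      simp only [TensorProduct.assoc_tmul, LinearMap.lTensor_tmul, Q_tmul, LinearMap.rTensor_tmul,
        TensorProduct.lid_tmul, TensorProduct.smul_tmul', map_smul, smul_eq_mul]
      rw [← TensorProduct.smul_tmul', map_smul, map_smul, smul_eq_mul]
  have hginj : Function.Injective (transpose R g) := fun ψ ψ' h => by
    refine WithConv.ext (LinearMap.ext fun x' => ?_)
    obtain ⟨x, rfl⟩ := hg x'
    exact congrArg (fun φ : D R A => φ x) h
  refine ⟨?_, fun x => ?_, ?_⟩
  · algebraize [(transpose R g : D R A' →ₐ[R] D R A).toRingHom]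
    haveI : IsScalarTower R (D R A') (D R A) :=
      .of_algebraMap_eq fun x => ((transpose R g : D R A' →ₐ[R] D R A).commutes x).symm
    haveI : Module.Finite (D R A') (D R A) := Module.Finite.of_restrictScalars_finite R _ _
    let s' : D R A →ₗ[D R A'] D R A' ⊗[R] D R A :=
      { toFun := s
        map_add' := map_add s
        map_smul' := fun χ φ => by
          show s (transpose R g χ * φ) = χ • s φ
          rw [hsl]
          generalize s φ = z
          induction z using TensorProduct.induction_on with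
          | zero => rw [smul_zero]; exact MulZeroClass.mul_zero (self := (inferInstance : Semiring (D R A' ⊗[R] D R A)).toMulZeroClass) _
          | add p q hp hq => rw [mul_add, smul_add, hp, hq]
          | tmul a b => rw [Algebra.TensorProduct.tmul_mul_tmul, one_mul, TensorProduct.smul_tmul', smul_eq_mul] }
    let μ' : D R A' ⊗[R] D R A →ₗ[D R A'] D R A :=
      { toFun := μ g
        map_add' := map_add (μ g)
        map_smul' := fun χ z => by
          show μ g (χ • z) = transpose R g χ * μ g z
          induction z using TensorProduct.induction_on with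
          | zero => simp
          | add p q hp hq => rw [smul_add, map_add, map_add, mul_add, hp, hq]
          | tmul a b => rw [TensorProduct.smul_tmul', smul_eq_mul, μ_tmul, μ_tmul, map_mul, mul_assoc] }
    haveI : Module.Projective (D R A') (D R A) :=
      Module.Projective.of_split s' μ' (LinearMap.ext hμs)
    haveI : Module.Flat (D R A') (D R A) := inferInstance
    rw [RingHom.FaithfullyFlat.iff_flat_and_comap_surjective]
    refine ⟨this, RingHom.IsIntegral.comap_surjective ?_ hginj⟩
    exact fun x => Algebra.IsIntegral.isIntegral (R := D R A') x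
  · refine ⟨(toDual R A).symm (toDual R A'' x ∘ₗ r), WithConv.ext (LinearMap.ext fun c => ?_)⟩
    show x (r (f c)) = x c
    rw [hrf]
  · refine le_antisymm (fun φ hφ => ?_) (Ideal.map_le_iff_le_comap.2 fun ψ hψ => ?_)
    · have hφ0 : ∀ c, φ (f c) = 0 := fun c => congrArg (fun x : D R A'' => x c) (show transpose R f φ = 0 from hφ)
      set J := Ideal.map (transpose R g : D R A' →ₐ[R] D R A) (RingHom.ker (Bialgebra.counitAlgHom R (D R A')))
      let ct : D R A' ⊗[R] D R A →ₗ[R] D R A :=
        (TensorProduct.lid R (D R A)).toLinearMap ∘ₗ (Bialgebra.counitAlgHom R (D R A')).toLinearMap.rTensor (D R A)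
      have hJ : ∀ z, μ g z - ct z ∈ J := fun z => by
        induction z using TensorProduct.induction_on with
        | zero => simp
        | add p q hp hq => rw [map_add, map_add, add_sub_add_comm]; exact add_mem hp hq
        | tmul ψ φ' =>
          have e : μ g (ψ ⊗ₜ φ') - ct (ψ ⊗ₜ φ') =
              transpose R g (ψ - Bialgebra.counitAlgHom R (D R A') ψ • 1) * φ' := by
            rw [μ_tmul, map_sub, map_smul, map_one, sub_mul, smul_mul_assoc, one_mul]
            rfl
          rw [e]
          refine Ideal.mul_mem_right _ _ (Ideal.mem_map_of_mem _ ?_)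
          rw [RingHom.mem_ker, map_sub, map_smul, map_one, smul_eq_mul, mul_one, sub_self]
      have hct : ∀ (z : D R A' ⊗[R] D R A) (y : A), ct z y = Q (R := R) z ((1 : A') ⊗ₜ y) := fun z y => by
        induction z using TensorProduct.induction_on with
        | zero => simp
        | add p q hp hq =>
          rw [map_add, map_add, LinearMap.add_apply, ← hp, ← hq]
          rfl
        | tmul ψ φ' =>
          rw [Q_tmul]
          rfl
      have h0 : ct (s φ) = 0 := WithConv.ext (LinearMap.ext fun y => by
        show ct (s φ) y = 0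
        rw [hct, hQs, hV1, hφ0])
      have := hJ (s φ)
      rwa [hμs, h0, sub_zero] at this
    · refine WithConv.ext (LinearMap.ext fun c => ?_)
      show ψ (g (f c)) = 0
      rw [g_comp_f f g hker, Algebra.algebraMap_eq_smul_one]
      show ψ.ofConv _ = 0
      rw [map_smul, show ψ.ofConv 1 = 0 from hψ, smul_zero]

end Dual

end Groth.Agent.CartLib.DualExact

end
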